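import Mathlib

set_option autoImplicit false
universe u

namespace Groth.Agent.Lib.Helper5.ResFin

open Group

theorem residuallyFinite_of_injective {G G' : Type*} [Group G] [Group G'] (f : G →* G')
    (hf : Function.Injective f) [ResiduallyFinite G'] : ResiduallyFinite G := by
  rw [residuallyFinite_iff_forall_finiteIndexNormalSubgroup]
  intro g hg
  apply hf
  rw [map_one]
  exact eq_one_iff_forall_finiteIndexNormalSubroup (f g) fun K => hg (K.comap f)

instance residuallyFinite_pi_int (j : Type) [Finite j] :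
    ResiduallyFinite (j → Multiplicative ℤ) := by
  apply residuallyFinite_of_forall_exists_finite_monoidHom.{0}
  intro g hg
  have : ∃ i, g i ≠ 1 := by
    by_contra h
    push Not at h
    exact hg (funext h)
  obtain ⟨i, hi⟩ := this
  set z : ℤ := Multiplicative.toAdd (g i) with hz
  have hz0 : z ≠ 0 := by
    intro h
    apply hi
    rw [← ofAdd_toAdd (g i), ← hz, h]
    rfl
  let m : ℕ := z.natAbs + 1
  let φ : (j → Multiplicative ℤ) →* Multiplicative (ZMod m) :=
    (AddMonoidHom.toMultiplicative (Int.castAddHom (ZMod m))).comp (Pi.evalMonoidHom _ i)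
  refine ⟨Multiplicative (ZMod m), inferInstance, inferInstance, φ, ?_⟩
  intro h
  have h1 : ((z : ℤ) : ZMod m) = 0 := by
    have : φ g = Multiplicative.ofAdd ((z : ℤ) : ZMod m) := rfl
    rw [this] at h
    exact h
  rw [ZMod.intCast_zmod_eq_zero_iff_dvd] at h1
  have h2 : |z| < (m : ℤ) := by
    simp only [m, Nat.cast_add, Nat.cast_one, Int.natCast_natAbs]
    omega
  exact hz0 (Int.eq_zero_of_abs_lt_dvd h1 h2)

theorem residuallyFinite_of_fg (G : Type*) [CommGroup G] [Group.FG G] : ResiduallyFinite G := by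
  obtain ⟨ι, j, _, _, p, hp, e, ⟨eq⟩⟩ := CommGroup.equiv_free_prod_prod_multiplicative_zmod G
  haveI : ∀ i, NeZero (p i ^ e i) := fun i => ⟨pow_ne_zero _ (hp i).ne_zero⟩
  haveI : Finite ((i : ι) → Multiplicative (ZMod (p i ^ e i))) := inferInstance
  exact residuallyFinite_of_injective eq.toMonoidHom eq.injective

/-- separation of a point from a subgroup by a finite index subgroup. -/
theorem exists_finiteIndex_ge (G : Type*) [CommGroup G] [Group.FG G] (A : Subgroup G) (x : G)
    (hx : x ∉ A) : ∃ H : FiniteIndexNormalSubgroup G, A ≤ H.toSubgroup ∧ x ∉ H := by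
  haveI : Group.FG (G ⧸ A) := inferInstance
  haveI := residuallyFinite_of_fg (G ⧸ A)
  have hne : (QuotientGroup.mk' A x) ≠ 1 := by
    intro h
    exact hx ((QuotientGroup.eq_one_iff x).1 h)
  obtain ⟨H₀, hH₀⟩ := exists_finiteIndexNormalSubgroup_notMem _ hne
  refine ⟨H₀.comap (QuotientGroup.mk' A), ?_, ?_⟩
  · intro a ha
    change QuotientGroup.mk' A a ∈ H₀
    have : QuotientGroup.mk' A a = 1 := (QuotientGroup.eq_one_iff a).2 ha
    rw [this]
    exact one_mem _
  · exact hH₀

end Groth.Agent.Lib.Helper5.ResFin
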