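import Mathlib
import Groth.Agent.Lib.Helper5.ResFin.A

set_option autoImplicit false
universe u

namespace Groth.Agent.Lib.Helper5.ResFin

open CategoryTheory ProfiniteGrp ProfiniteGrp.ProfiniteCompletion

theorem map_etaFn {G G' : GrpCat.{u}} (f : G ⟶ G') (a : G) :
    (ProfiniteGrp.profiniteCompletion.map f).hom (etaFn G a) = etaFn G' (f.hom a) := by
  have h := lift_eta (f ≫ eta G')
  have := ConcreteCategory.congr_hom h a
  exact this

theorem main (A' : Type u) [CommGroup A'] [Group.FG A']
    (A : Subgroup A') (x : A')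
    (hx : ProfiniteGrp.ProfiniteCompletion.etaFn (GrpCat.of A') x ∈
      Set.range ⇑(ProfiniteGrp.profiniteCompletion.map (GrpCat.ofHom A.subtype)).hom) :
    x ∈ A := by
  by_contra hxA
  obtain ⟨H, hAH, hxH⟩ := exists_finiteIndex_ge A' A x hxA
  obtain ⟨y, hy⟩ := hx
  set Φ := ProfiniteGrp.profiniteCompletion.map (GrpCat.ofHom A.subtype) with hΦ
  let H' : FiniteIndexNormalSubgroup (GrpCat.of A') := H
  let ev : completion (GrpCat.of A') → (diagram (GrpCat.of A')).obj H' := fun z => z.1 H'
  have hev : Continuous ev := (continuous_apply H').comp continuous_subtype_val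
  have hΦc : Continuous Φ.hom := Φ.hom.continuous_toFun
  have hclosed : IsClosed {y : completion (GrpCat.of A) | ev (Φ.hom y) = 1} :=
    isClosed_eq (hev.comp hΦc) continuous_const
  have hdense := ProfiniteGrp.ProfiniteCompletion.denseRange (GrpCat.of A)
  have hall : ∀ y : completion (GrpCat.of A), ev (Φ.hom y) = 1 := by
    intro y
    have hsub : Set.range (etaFn (GrpCat.of A)) ⊆
        {y : completion (GrpCat.of A) | ev (Φ.hom y) = 1} := by
      rintro _ ⟨a, rfl⟩
      change ev (Φ.hom (etaFn (GrpCat.of A) a)) = 1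
      rw [hΦ, map_etaFn]
      change (QuotientGroup.mk (a : A') : A' ⧸ H.toSubgroup) = 1
      rw [QuotientGroup.eq_one_iff]
      exact hAH a.2
    have := hclosed.closure_subset_iff.2 hsub
    rw [hdense.closure_range] at this
    exact this (Set.mem_univ y)
  have h1 := hall y
  rw [hy] at h1
  have h2 : (QuotientGroup.mk x : A' ⧸ H.toSubgroup) = 1 := h1
  rw [QuotientGroup.eq_one_iff] at h2
  exact hxH h2

end Groth.Agent.Lib.Helper5.ResFin
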